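import Mathlib

/-! helper7: the stalk of the module of differentials of a quotient of an algebra vanishes iff the differentials of the kernel span the stalk upstairs (exact sequence and Nakayama). -/

set_option autoImplicit false
set_option linter.style.haveILetI false
set_option linter.unusedVariables false
set_option linter.unusedSectionVars false

universe u

open TensorProduct KaehlerDifferential

namespace Groth.Agent.Helper7.KDStalk

/-- If `P → B` is surjective with kernel `I` and `1 ⊗ m = 0` in `B ⊗[P] M`, then `m ∈ I M`. -/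
theorem mem_smul_top_of_one_tmul_eq_zero {P B : Type u} [CommRing P] [CommRing B] [Algebra P B]
    (hsurj : Function.Surjective (algebraMap P B)) {M : Type u} [AddCommGroup M] [Module P M]
    (m : M) (h : (1 : B) ⊗ₜ[P] m = 0) :
    m ∈ (RingHom.ker (algebraMap P B) • ⊤ : Submodule P M) := by
  let I : Ideal P := RingHom.ker (algebraMap P B)
  have hsurj' : Function.Surjective (Algebra.ofId P B) := hsurj
  let e : (P ⧸ RingHom.ker (Algebra.ofId P B)) ≃ₐ[P] B :=
    Ideal.quotientKerAlgEquivOfSurjective hsurj'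
  have hI : RingHom.ker (Algebra.ofId P B) = I := by
    ext x; rfl
  let E := TensorProduct.congr e.toLinearEquiv (LinearEquiv.refl P M)
  have h1 : E ((1 : P ⧸ RingHom.ker (Algebra.ofId P B)) ⊗ₜ[P] m) = 0 := by
    rw [TensorProduct.congr_tmul]
    simpa using h
  have h2 : ((1 : P ⧸ RingHom.ker (Algebra.ofId P B)) ⊗ₜ[P] m) = 0 := by
    simpa using h1
  have h3 := congrArg (TensorProduct.quotTensorEquivQuotSMul M (RingHom.ker (Algebra.ofId P B))) h2
  rw [TensorProduct.quotTensorEquivQuotSMul_mk_one_tmul, map_zero,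
    Submodule.Quotient.mk_eq_zero, hI] at h3
  exact h3

/-- A form on `P` dying in `Ω[B⁄A]` is, modulo `I Ω`, the differential of an element of the kernel
`I` of the surjection `P → B`. -/
theorem exists_D_sub_mem {A P B : Type u} [CommRing A] [CommRing P] [CommRing B] [Algebra A P]
    [Algebra A B] [Algebra P B] [IsScalarTower A P B]
    (hsurj : Function.Surjective (algebraMap P B)) (ω : Ω[P⁄A])
    (hω : KaehlerDifferential.map A A P B ω = 0) :
    ∃ x ∈ RingHom.ker (algebraMap P B),
      ω - D A P x ∈ (RingHom.ker (algebraMap P B) • ⊤ : Submodule P Ω[P⁄A]) := by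
  have hex := KaehlerDifferential.exact_kerCotangentToTensor_mapBaseChange A P B hsurj
  have h0 : KaehlerDifferential.mapBaseChange A P B ((1 : B) ⊗ₜ[P] ω) = 0 := by
    rw [KaehlerDifferential.mapBaseChange_tmul, one_smul, hω]
  obtain ⟨c, hc⟩ := (hex ((1 : B) ⊗ₜ[P] ω)).mp h0
  obtain ⟨x, rfl⟩ := Ideal.toCotangent_surjective _ c
  rw [KaehlerDifferential.kerCotangentToTensor_toCotangent] at hc
  refine ⟨x, x.2, ?_⟩
  have h1 : (1 : B) ⊗ₜ[P] (ω - D A P x) = 0 := by
    rw [TensorProduct.tmul_sub, hc, sub_self]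
  exact mem_smul_top_of_one_tmul_eq_zero hsurj _ h1

/-- General form: `P` any `A`-algebra with finite `Ω[P⁄A]`, `φ : P → B` surjective. -/
theorem main_general {A B P : Type u} [CommRing A] [CommRing B] [CommRing P] [Algebra A B]
    [Algebra A P] [Module.Finite P Ω[P⁄A]] (φ : P →ₐ[A] B) (hφ : Function.Surjective φ)
    (q : Ideal B) [q.IsPrime] :
    Subsingleton (LocalizedModule q.primeCompl (KaehlerDifferential A B)) ↔
      Submodule.span (Localization.AtPrime (q.comap φ.toRingHom))
        ((LocalizedModule.mkLinearMap (q.comap φ.toRingHom).primeCompl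
            (KaehlerDifferential A P)) ''
          ((KaehlerDifferential.D A P) '' (RingHom.ker φ.toRingHom : Set P))) = ⊤ := by
  letI : Algebra P B := φ.toRingHom.toAlgebra
  haveI : IsScalarTower A P B := IsScalarTower.of_algebraMap_eq (fun a => (φ.commutes a).symm)
  have hsurj : Function.Surjective (algebraMap P B) := hφ
  have halg : ∀ p : P, algebraMap P B p = φ p := fun p => rfl
  set 𝔮 : Ideal P := q.comap φ.toRingHom with h𝔮
  have hmem𝔮 : ∀ p : P, p ∈ 𝔮 ↔ φ p ∈ q := fun p => Iff.rfl
  set I : Ideal P := RingHom.ker φ.toRingHom with hI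
  have hIker : RingHom.ker (algebraMap P B) = I := rfl
  have hI𝔮 : I ≤ 𝔮 := by
    intro x hx
    rw [hmem𝔮]
    have : φ x = 0 := hx
    rw [this]
    exact zero_mem _
  let mp : Ω[P⁄A] →ₗ[P] Ω[B⁄A] := KaehlerDifferential.map A A P B
  let K : Submodule P Ω[P⁄A] := LinearMap.ker mp
  let mk := LocalizedModule.mkLinearMap 𝔮.primeCompl (Ω[P⁄A])
  have hDK : ∀ g ∈ I, D A P g ∈ K := by
    intro g hg
    change mp (D A P g) = 0
    rw [KaehlerDifferential.map_D, halg]
    have : φ g = 0 := hg
    rw [this, map_zero]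
  set N := Submodule.span (Localization.AtPrime 𝔮) (mk '' ((D A P) '' (I : Set P))) with hN
  have hunit : ∀ (s : P), s ∉ 𝔮 → ∀ (W : Submodule (Localization.AtPrime 𝔮)
      (LocalizedModule 𝔮.primeCompl (Ω[P⁄A]))) (x : LocalizedModule 𝔮.primeCompl (Ω[P⁄A])),
      s • x ∈ W → x ∈ W := by
    intro s hs W x hx
    have hu : IsUnit (algebraMap P (Localization.AtPrime 𝔮) s) :=
      IsLocalization.map_units (Localization.AtPrime 𝔮) (⟨s, hs⟩ : 𝔮.primeCompl)
    obtain ⟨u, hu'⟩ := hu
    have h1 : x = (↑u⁻¹ : Localization.AtPrime 𝔮) • (s • x) := by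
      rw [← algebraMap_smul (Localization.AtPrime 𝔮) s x, ← hu', smul_smul, Units.inv_mul,
        one_smul]
    rw [h1]
    exact W.smul_mem _ hx
  constructor
  · intro hsub
    rw [LocalizedModule.subsingleton_iff] at hsub
    -- Step 1
    have step1 : ∀ η : Ω[P⁄A], ∃ s : P, s ∉ 𝔮 ∧ s • η ∈ K := by
      intro η
      obtain ⟨r, hr, hr0⟩ := hsub (mp η)
      obtain ⟨s, rfl⟩ := hφ r
      refine ⟨s, fun hs => hr ((hmem𝔮 s).mp hs), ?_⟩
      change mp (s • η) = 0
      rw [map_smul, ← algebraMap_smul B s (mp η), halg]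
      exact hr0
    let 𝔪 := IsLocalRing.maximalIdeal (Localization.AtPrime 𝔮)
    let W : Submodule (Localization.AtPrime 𝔮) (LocalizedModule 𝔮.primeCompl (Ω[P⁄A])) :=
      N ⊔ 𝔪 • ⊤
    have hIW : ∀ ι ∈ (I • ⊤ : Submodule P Ω[P⁄A]), mk ι ∈ 𝔪 • (⊤ : Submodule
        (Localization.AtPrime 𝔮) (LocalizedModule 𝔮.primeCompl (Ω[P⁄A]))) := by
      intro ι hι
      refine Submodule.smul_induction_on hι ?_ ?_
      · intro a ha ω _
        rw [map_smul, ← algebraMap_smul (Localization.AtPrime 𝔮) a (mk ω)]
        refine Submodule.smul_mem_smul ?_ Submodule.mem_top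
        exact (IsLocalization.AtPrime.to_map_mem_maximal_iff (Localization.AtPrime 𝔮) 𝔮 a).mpr
          (hI𝔮 ha)
      · intro x y hx hy
        rw [map_add]
        exact add_mem hx hy
    have step2 : ∀ η : Ω[P⁄A], mk η ∈ W := by
      intro η
      obtain ⟨s, hs, hsK⟩ := step1 η
      obtain ⟨g, hg, hmem⟩ := exists_D_sub_mem (A := A) hsurj (s • η) hsK
      rw [hIker] at hg hmem
      apply hunit s hs W
      rw [← map_smul]
      have : s • η = D A P g + (s • η - D A P g) := by abel
      rw [this, map_add]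
      refine Submodule.add_mem _ (Submodule.mem_sup_left ?_) (Submodule.mem_sup_right (hIW _ hmem))
      exact Submodule.subset_span ⟨_, ⟨g, hg, rfl⟩, rfl⟩
    have step3 : (⊤ : Submodule (Localization.AtPrime 𝔮)
        (LocalizedModule 𝔮.primeCompl (Ω[P⁄A]))) ≤ W := by
      intro x _
      obtain ⟨⟨η, t⟩, rfl⟩ := IsLocalizedModule.mk'_surjective 𝔮.primeCompl mk x
      apply hunit t.1 t.2 W
      simp only [Function.uncurry_apply_pair]
      have : (t : P) • IsLocalizedModule.mk' mk η t = mk η := by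
        rw [← Submonoid.smul_def, IsLocalizedModule.mk'_cancel']
      rw [this]
      exact step2 η
    have hfg : (⊤ : Submodule (Localization.AtPrime 𝔮)
        (LocalizedModule 𝔮.primeCompl (Ω[P⁄A]))).FG := Module.Finite.fg_top
    have := Submodule.le_of_le_smul_of_le_jacobson_bot (N := N) hfg
      (IsLocalRing.maximalIdeal_le_jacobson ⊥) step3
    exact top_le_iff.mp this
  · intro hN'
    have hNK : N ≤ K.localized 𝔮.primeCompl := by
      rw [hN, Submodule.span_le]
      rintro _ ⟨_, ⟨g, hg, rfl⟩, rfl⟩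
      exact ⟨D A P g, hDK g hg, 1, by simp [mk]⟩
    have claim : ∀ η : Ω[P⁄A], ∃ s : P, s ∉ 𝔮 ∧ s • η ∈ K := by
      intro η
      have h1 : mk η ∈ K.localized 𝔮.primeCompl := hNK (hN' ▸ Submodule.mem_top)
      obtain ⟨m, hm, s, hms⟩ := h1
      rw [IsLocalizedModule.mk'_eq_iff, Submonoid.smul_def, ← map_smul] at hms
      obtain ⟨c, hc⟩ := (IsLocalizedModule.eq_iff_exists 𝔮.primeCompl mk).mp hms
      simp only [Submonoid.smul_def] at hc
      refine ⟨c.1 * s.1, fun h => ?_, ?_⟩
      · rcases (Ideal.IsPrime.mem_or_mem inferInstance h) with h | h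
        · exact c.2 h
        · exact s.2 h
      · rw [mul_smul]
        rw [← hc]
        exact K.smul_mem _ hm
    rw [LocalizedModule.subsingleton_iff]
    intro ω
    have hω : ω ∈ Submodule.span B (Set.range (D A B)) := by
      rw [KaehlerDifferential.span_range_derivation]; exact Submodule.mem_top
    induction hω using Submodule.span_induction with
    | mem x hx =>
      obtain ⟨b, rfl⟩ := hx
      obtain ⟨p, rfl⟩ := hφ b
      obtain ⟨s, hs, hsK⟩ := claim (D A P p)
      refine ⟨φ s, fun h => hs ((hmem𝔮 s).mpr h), ?_⟩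
      have : mp (s • D A P p) = 0 := hsK
      rw [map_smul, ← algebraMap_smul B s, halg] at this
      rw [← this]
      congr 1
      exact (KaehlerDifferential.map_D A A P B p).symm
    | zero => exact ⟨1, Submonoid.one_mem _, smul_zero _⟩
    | add x y _ _ hx hy =>
      obtain ⟨r, hr, hr0⟩ := hx
      obtain ⟨r', hr', hr0'⟩ := hy
      refine ⟨r * r', Submonoid.mul_mem _ hr hr', ?_⟩
      rw [smul_add, mul_smul r r' y, hr0', smul_zero, mul_comm, mul_smul, hr0, smul_zero, add_zero]
    | smul a x _ hx =>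
      obtain ⟨r, hr, hr0⟩ := hx
      exact ⟨r, hr, by rw [smul_comm, hr0, smul_zero]⟩

theorem main {A B : Type u} [CommRing A] [CommRing B]
    [Algebra A B] (n : ℕ) (φ : MvPolynomial (Fin n) A →ₐ[A] B) (hφ : Function.Surjective φ)
    (q : Ideal B) [q.IsPrime] :
    Subsingleton (LocalizedModule q.primeCompl (KaehlerDifferential A B)) ↔
      Submodule.span (Localization.AtPrime (q.comap φ.toRingHom))
        ((LocalizedModule.mkLinearMap (q.comap φ.toRingHom).primeCompl
            (KaehlerDifferential A (MvPolynomial (Fin n) A))) ''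
          ((KaehlerDifferential.D A (MvPolynomial (Fin n) A)) ''
            (RingHom.ker φ.toRingHom : Set (MvPolynomial (Fin n) A)))) = ⊤ :=
  main_general φ hφ q

end Groth.Agent.Helper7.KDStalk
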